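import Groth.Agent.CAlgFlatExt.Triangular

/-! Closed sets of indices of a triangular system: elimination of the remaining equations. -/

namespace Groth.Agent.CAlgFlatExt

open MvPolynomial

universe u

variable {A : Type u} [CommRing A] {ι : Type u} [LinearOrder ι] [WellFoundedLT ι]
variable (f : (a : ι) → Polynomial (Base A a))

/-- A set of indices containing all the variables of its equations. -/
def IsClosedSys (t : Set ι) : Prop :=
  ∀ a ∈ t, ∀ n, ((f a).coeff n : MvPolynomial ι A) ∈ supported A t

lemma aeval_coeffs_mem {s : Set ι} {a : ι} (ha : a ∈ s) (Y : Polynomial (Base A a))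
    (hY : ∀ n, (Y.coeff n : MvPolynomial ι A) ∈ supported A s) :
    Polynomial.aeval (X a : MvPolynomial ι A) Y ∈ supported A s := by
  rw [Polynomial.aeval_eq_sum_range]
  refine sum_mem fun n _ => ?_
  rw [Algebra.smul_def]
  exact mul_mem (hY n) (pow_mem (Algebra.subset_adjoin (s := X '' s) ⟨a, ha, rfl⟩) n)

lemma rel_mem_of_closed {t : Set ι} (ht : IsClosedSys f t) {a : ι} (ha : a ∈ t) :
    rel f a ∈ supported A t :=
  aeval_coeffs_mem ha _ (ht a ha)

variable (hmon : ∀ a, (f a).Monic) (hdeg : ∀ a, 0 < (f a).natDegree)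

include hmon hdeg in
lemma eliminate_top (a : ι) (P : Set (MvPolynomial ι A))
    (hP : ∀ z ∈ P, a ∉ z.vars) (y : MvPolynomial ι A) (hya : a ∉ y.vars)
    (hy : y ∈ Ideal.span (insert (rel f a) P)) : y ∈ Ideal.span P := by
  classical
  let q := Ideal.Quotient.mk (Ideal.span P)
  let Θ : MvPolynomial ι A →+* Polynomial (MvPolynomial ι A ⧸ Ideal.span P) :=
    eval₂Hom (Polynomial.C.comp (q.comp C))
      (fun b => if b = a then Polynomial.X else Polynomial.C (q (X b)))
  have hΘ : ∀ z : MvPolynomial ι A, a ∉ z.vars → Θ z = Polynomial.C (q z) := by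
    intro z hz
    change Θ z = (Polynomial.C.comp q) z
    refine hom_congr_vars ?_ (fun b hb _ => ?_) rfl
    · ext r; simp [Θ]
    · have : b ≠ a := fun h => hz (h ▸ hb)
      simp [Θ, this]
  have hrel : Θ (rel f a) = (f a).map (q.comp (Base A a).val.toRingHom) := by
    have hX : Θ (X a) = Polynomial.X := by simp [Θ]
    rw [rel, Polynomial.aeval_def, Polynomial.hom_eval₂, hX]
    have : Θ.comp (algebraMap (Base A a) (MvPolynomial ι A)) =
        Polynomial.C.comp (q.comp (Base A a).val.toRingHom) :=
      RingHom.ext fun z => hΘ z.1 fun h => lt_irrefl a (mem_supported.1 z.2 h)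
    rw [this, ← Polynomial.eval₂_map, Polynomial.eval₂_C_X]
  rcases subsingleton_or_nontrivial (MvPolynomial ι A ⧸ Ideal.span P) with hss | hnt
  · exact Ideal.Quotient.eq_zero_iff_mem.1 (Subsingleton.elim _ _)
  obtain ⟨w, z, hz, rfl⟩ := Ideal.mem_span_insert.1 hy
  have hz0 : Θ z = 0 := by
    have : Ideal.span P ≤ RingHom.ker Θ := by
      refine Ideal.span_le.2 fun v hv => ?_
      have h0 : q v = 0 := Ideal.Quotient.eq_zero_iff_mem.2 (Ideal.subset_span hv)
      rw [SetLike.mem_coe, RingHom.mem_ker, hΘ v (hP v hv), h0, map_zero]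
    exact this hz
  have h := hΘ _ hya
  rw [map_add, hz0, add_zero, map_mul, hrel, mul_comm (Θ w)] at h
  have hw : Θ w = 0 := by
    by_contra hne
    have := congrArg Polynomial.natDegree h
    rw [Polynomial.natDegree_C, ((hmon a).map _).natDegree_mul' hne, (hmon a).natDegree_map] at this
    have := hdeg a
    omega
  rw [hw, mul_zero, eq_comm, Polynomial.C_eq_zero] at h
  exact Ideal.Quotient.eq_zero_iff_mem.1 h

include hmon hdeg in
lemma eliminate_finite {t : Set ι} (ht : IsClosedSys f t) (S : Set (MvPolynomial ι A))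
    (hS : S ⊆ supported A t) (y : MvPolynomial ι A) (hy : y ∈ supported A t) (F : Finset ι) :
    y ∈ Ideal.span (rel f '' (t ∪ ↑F) ∪ S) → y ∈ Ideal.span (rel f '' t ∪ S) := by
  classical
  induction F using Finset.induction_on_max with
  | empty => simp
  | insert a F hmax ih =>
    intro hmem
    by_cases ha : a ∈ t
    · refine ih ?_
      rwa [Finset.coe_insert, Set.union_insert, Set.insert_eq_of_mem (Set.mem_union_left _ ha)] at hmem
    · refine ih (eliminate_top f hmon hdeg a _ ?_ y (fun h => ha (mem_supported.1 hy h)) ?_)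
      · rintro z (⟨b, hb | hb, rfl⟩ | hz)
        · exact fun h => ha (mem_supported.1 (rel_mem_of_closed f ht hb) h)
        · intro h
          have := mem_supported.1 (rel_mem_supported f b (s := Set.Iic b) le_rfl) h
          exact absurd (hmax b hb) (not_lt.2 this)
        · exact fun h => ha (mem_supported.1 (hS hz) h)
      · rwa [Finset.coe_insert, Set.union_insert, Set.image_insert_eq, Set.insert_union] at hmem

include hmon hdeg in
theorem eliminate {t : Set ι} (ht : IsClosedSys f t) (S : Set (MvPolynomial ι A))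
    (hS : S ⊆ supported A t) (y : MvPolynomial ι A) (hy : y ∈ supported A t)
    (hmem : y ∈ relIdeal f Set.univ ⊔ Ideal.span S) : y ∈ Ideal.span (rel f '' t ∪ S) := by
  classical
  rw [relIdeal, ← Ideal.span_union] at hmem
  obtain ⟨T, hT, hyT⟩ := Submodule.mem_span_finite_of_mem_span hmem
  obtain ⟨F, -, hF⟩ := Finset.subset_set_image_iff.1
    (show ↑(T.filter fun z => z ∈ rel f '' Set.univ) ⊆ rel f '' Set.univ from
      fun z hz => (Finset.mem_filter.1 hz).2)
  refine eliminate_finite f hmon hdeg ht S hS y hy F (Ideal.span_mono ?_ hyT)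
  intro z hz
  rcases hT hz with h | h
  · left
    have : z ∈ F.image (rel f) := hF ▸ Finset.mem_filter.2 ⟨hz, h⟩
    obtain ⟨b, hb, rfl⟩ := Finset.mem_image.1 this
    exact ⟨b, Or.inr hb, rfl⟩
  · exact Or.inr h

lemma exists_closed_finite (F : Finset ι) :
    ∃ t : Finset ι, F ⊆ t ∧ IsClosedSys f (↑t : Set ι) := by
  classical
  have key : ∀ a : ι, ∃ t : Finset ι, a ∈ t ∧ IsClosedSys f (↑t : Set ι) := by
    intro a
    induction a using WellFoundedLT.induction with
    | ind a ih =>
      let D : Finset ι := (Finset.range ((f a).natDegree + 1)).biUnion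
        fun n => ((f a).coeff n : MvPolynomial ι A).vars
      have hD : ∀ b ∈ D, b < a := fun b hb => by
        obtain ⟨n, -, hb⟩ := Finset.mem_biUnion.1 hb
        exact mem_supported.1 ((f a).coeff n).2 hb
      choose T hT using fun b : D => ih b.1 (hD _ b.2)
      refine ⟨insert a (Finset.univ.biUnion T), Finset.mem_insert_self _ _, fun c hc n => ?_⟩
      rcases Finset.mem_insert.1 hc with rfl | hc
      · rcases le_or_gt n (f c).natDegree with hn | hn
        · refine mem_supported.2 fun b hb => Finset.mem_insert_of_mem (Finset.mem_biUnion.2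
            ⟨⟨b, Finset.mem_biUnion.2 ⟨n, Finset.mem_range.2 (by omega), hb⟩⟩, Finset.mem_univ _,
              (hT _).1⟩)
        · rw [Polynomial.coeff_eq_zero_of_natDegree_lt hn]
          exact zero_mem _
      · obtain ⟨b, -, hcb⟩ := Finset.mem_biUnion.1 hc
        exact supported_mono (fun k hk => Finset.mem_insert_of_mem
          (Finset.mem_biUnion.2 ⟨b, Finset.mem_univ _, hk⟩)) ((hT b).2 c hcb n)
  choose T hT using key
  refine ⟨F.biUnion T, fun a ha => Finset.mem_biUnion.2 ⟨a, ha, (hT a).1⟩, fun c hc n => ?_⟩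
  obtain ⟨b, hb, hcb⟩ := Finset.mem_biUnion.1 hc
  exact supported_mono (fun k hk => Finset.mem_biUnion.2 ⟨b, hb, hk⟩) ((hT b).2 c hcb n)

end Groth.Agent.CAlgFlatExt
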