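import Mathlib.RingTheory.AdjoinRoot
import Mathlib.RingTheory.Polynomial.ScaleRoots
import Mathlib.RingTheory.LocalRing.ResidueField.Ideal
import Mathlib.RingTheory.IntegralClosure.IsIntegralClosure.Basic
import Mathlib.LinearAlgebra.FreeModule.Finite.Basic
import Mathlib.RingTheory.Finiteness.Basic
import Mathlib.FieldTheory.Minpoly.Field
import Mathlib.RingTheory.Polynomial.Basic

/-! Finite free extensions with prescribed residue field extension at a prime. -/

namespace Groth.Agent.CAlgFlatExt

open Polynomial

universe u

variable {R : Type u} [CommRing R] {L : Type u} [Field L] [Algebra R L] {p : Ideal R}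

/-- A finite free algebra mapping to `L` with kernel generated by `p`. -/
structure FreeStage (R : Type u) [CommRing R] (L : Type u) [Field L] [Algebra R L] (p : Ideal R) where
  carrier : Type u
  [commRing : CommRing carrier]
  [algebra : Algebra R carrier]
  [finite : Module.Finite R carrier]
  [free : Module.Free R carrier]
  g : carrier →ₐ[R] L
  ker_g : RingHom.ker g = p.map (algebraMap R carrier)

attribute [instance] FreeStage.commRing FreeStage.algebra FreeStage.finite FreeStage.free

/-- The subfield generated by the image of a stage. -/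
abbrev FreeStage.field (T : FreeStage R L p) : Subfield L := Subfield.closure (Set.range T.g)

theorem FreeStage.step (T : FreeStage R L p) (a : L) (ha : IsIntegral T.field a) :
    ∃ T' : FreeStage R L p, T.field ≤ T'.field ∧ a ∈ T'.field := by
  classical
  set m := minpoly T.field a
  set n := m.natDegree
  have hfrac : ∀ i, ∃ y z : T.carrier, T.g z ≠ 0 ∧ (m.coeff i : L) * T.g z = T.g y := by
    intro i
    obtain ⟨y, hy, z, hz, hyz⟩ := Subfield.mem_closure_iff.1 (m.coeff i).2
    rw [show Set.range T.g = Set.range T.g.toRingHom from rfl, ← RingHom.coe_range,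
      Subring.closure_eq] at hy hz
    obtain ⟨y, rfl⟩ := hy
    obtain ⟨z, rfl⟩ := hz
    rcases eq_or_ne (T.g z) 0 with h | h
    · exact ⟨0, 1, by simp, by rw [← hyz]; simp [h]⟩
    · exact ⟨y, z, h, by rw [← hyz]; exact div_mul_cancel₀ _ h⟩
  choose y z hz hy using hfrac
  let d : T.carrier := ∏ i ∈ Finset.range n, z i
  have hd : T.g d ≠ 0 := by
    rw [map_prod]
    exact Finset.prod_ne_zero_iff.2 fun i _ => hz i
  let mL : L[X] := m.map (algebraMap T.field L)
  have hmL : mL.Monic := (minpoly.monic ha).map _
  have hmLn : mL.natDegree = n := natDegree_map _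
  let m' : L[X] := mL.scaleRoots (T.g d)
  have hm' : m'.Monic := (monic_scaleRoots_iff _).2 hmL
  have hlift : m' ∈ lifts T.g.toRingHom := by
    rw [lifts_iff_coeff_lifts]
    intro i
    rw [coeff_scaleRoots, hmLn]
    rcases lt_trichotomy i n with hi | rfl | hi
    · refine ⟨y i * (∏ j ∈ (Finset.range n).erase i, z j) * d ^ (n - i - 1), ?_⟩
      show T.g (y i * (∏ j ∈ (Finset.range n).erase i, z j) * d ^ (n - i - 1)) = _
      rw [map_mul, map_mul, ← hy i, mul_assoc (m.coeff i : L), ← map_mul T.g,
        Finset.mul_prod_erase _ _ (Finset.mem_range.2 hi), mul_assoc, ← map_pow T.g, map_pow,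
        ← pow_succ', show n - i - 1 + 1 = n - i by omega]
      simp only [mL, coeff_map, map_pow, d]
      rfl
    · exact ⟨1, by rw [← hmLn, hmL.coeff_natDegree]; simp⟩
    · exact ⟨0, by rw [coeff_eq_zero_of_natDegree_lt (p := mL) (by omega)]; simp⟩
  obtain ⟨f, hf, hfdeg, hfmon⟩ := lifts_and_natDegree_eq_and_monic hlift hm'
  rw [natDegree_scaleRoots, hmLn] at hfdeg
  have hroot : f.eval₂ T.g.toRingHom (T.g d * a) = 0 := by
    rw [← eval_map, hf, ← coe_aeval_eq_eval]
    refine scaleRoots_aeval_eq_zero (R := L) ?_
    rw [aeval_map_algebraMap]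
    exact minpoly.aeval _ _
  have := hfmon.finite_adjoinRoot
  have := hfmon.free_adjoinRoot
  let G : AdjoinRoot f →ₐ[R] L :=
    { AdjoinRoot.lift T.g.toRingHom (T.g d * a) hroot with
      commutes' := fun r => by
        show AdjoinRoot.lift T.g.toRingHom (T.g d * a) hroot (algebraMap R (AdjoinRoot f) r) = _
        rw [IsScalarTower.algebraMap_apply R T.carrier (AdjoinRoot f), AdjoinRoot.algebraMap_eq,
          AdjoinRoot.lift_of]
        exact T.g.commutes r }
  have hG : ∀ r : T.carrier[X], G (AdjoinRoot.mk f r) = r.eval₂ T.g.toRingHom (T.g d * a) :=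
    fun r => AdjoinRoot.lift_mk hroot r
  have hker : RingHom.ker G = p.map (algebraMap R (AdjoinRoot f)) := by
    refine le_antisymm (fun w hw => ?_) (Ideal.map_le_iff_le_comap.2 fun r hr => ?_)
    · obtain ⟨r, rfl⟩ := AdjoinRoot.mk_surjective w
      rw [RingHom.mem_ker, hG] at hw
      have hsplit := modByMonic_add_div r f
      rw [← hsplit, eval₂_add, eval₂_mul, hroot, zero_mul, add_zero] at hw
      rw [← hsplit, map_add, map_mul, AdjoinRoot.mk_self, zero_mul, add_zero,
        IsScalarTower.algebraMap_eq R T.carrier (AdjoinRoot f), ← Ideal.map_map, ← T.ker_g,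
        AdjoinRoot.algebraMap_eq, show AdjoinRoot.of f = (AdjoinRoot.mk f).comp C from rfl,
        ← Ideal.map_map]
      refine Ideal.mem_map_of_mem _ (Ideal.mem_map_C_iff.2 fun k => ?_)
      rcases subsingleton_or_nontrivial T.carrier with hs | hs
      · rw [Subsingleton.elim ((r %ₘ f).coeff k) 0]; exact zero_mem _
      let gF : T.carrier →+* T.field := T.g.toRingHom.codRestrict T.field
        fun s => Subfield.subset_closure ⟨s, rfl⟩
      let r' : T.field[X] := ((r %ₘ f).map gF).comp (C (gF d) * X)
      have hr0 : r' = 0 := by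
        by_contra hne
        have h1 : Polynomial.aeval a r' = 0 := by
          rw [aeval_comp]
          simp only [map_mul, aeval_C, aeval_X]
          rw [aeval_def, eval₂_map]
          exact hw
        have h2 : n ≤ r'.natDegree :=
          natDegree_le_natDegree (minpoly.degree_le_of_ne_zero T.field a hne h1)
        have h3 : r'.natDegree < n := by
          refine lt_of_le_of_lt natDegree_comp_le ?_
          have h4 : (C (gF d) * X).natDegree ≤ 1 := natDegree_C_mul_le _ _ |>.trans natDegree_X_le
          have h5 : (r %ₘ f).natDegree < n := by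
            rw [← hfdeg]
            refine natDegree_modByMonic_lt r hfmon fun h => ?_
            rw [h, natDegree_one] at hfdeg
            exact (minpoly.natDegree_pos ha).ne hfdeg
          calc _ ≤ (r %ₘ f).natDegree * 1 := Nat.mul_le_mul natDegree_map_le h4
            _ < n := by simpa using h5
        omega
      have := congrArg (fun q => ((q.coeff k : T.field) : L)) hr0
      simp only [r', comp_C_mul_X_coeff, coeff_map, coeff_zero] at this
      rw [RingHom.mem_ker]
      have h6 : T.g ((r %ₘ f).coeff k) * T.g d ^ k = 0 := this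
      exact (mul_eq_zero.1 h6).resolve_right (pow_ne_zero _ hd)
    · have h : r ∈ RingHom.ker (algebraMap R L) := by
        have := Ideal.mem_map_of_mem (algebraMap R T.carrier) hr
        rw [← T.ker_g, RingHom.mem_ker, T.g.commutes] at this
        exact this
      show G (algebraMap R (AdjoinRoot f) r) = 0
      rw [G.commutes]
      exact h
  have : Module.Finite R (AdjoinRoot f) := Module.Finite.trans T.carrier _
  have : Module.Free R (AdjoinRoot f) := Module.Free.trans (R := R) (S := T.carrier)
  refine ⟨{ carrier := AdjoinRoot f, g := G, ker_g := hker }, ?_, ?_⟩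
  · refine Subfield.closure_mono (Set.range_subset_iff.2 fun s => ⟨AdjoinRoot.mk f (C s), ?_⟩)
    rw [hG, eval₂_C]; rfl
  · have h1 : T.g d * a ∈ Subfield.closure (Set.range G) :=
      Subfield.subset_closure ⟨AdjoinRoot.mk f X, by rw [hG, eval₂_X]⟩
    have h2 : T.g d ∈ Subfield.closure (Set.range G) :=
      Subfield.subset_closure ⟨AdjoinRoot.mk f (C d), by rw [hG, eval₂_C]; rfl⟩
    have := div_mem h1 h2
    rwa [mul_div_cancel_left₀ a hd] at this

theorem exists_free_extension [p.IsPrime] [Algebra p.ResidueField L] [IsScalarTower R p.ResidueField L]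
    [Module.Finite p.ResidueField L] :
    ∃ T : FreeStage R L p, T.field = ⊤ := by
  classical
  let T₀ : FreeStage R L p :=
    { carrier := R, g := Algebra.ofId R L,
      ker_g := by
        show RingHom.ker (algebraMap R L) = _
        rw [IsScalarTower.algebraMap_eq R p.ResidueField L,
          RingHom.ker_comp_of_injective _ (algebraMap p.ResidueField L).injective,
          Ideal.ker_algebraMap_residueField]
        simp }
  have hk : ∀ T : FreeStage R L p, ∀ c : p.ResidueField, algebraMap _ L c ∈ T.field := by
    intro T c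
    have hr : ∀ r : R, algebraMap R L r ∈ T.field := fun r =>
      Subfield.subset_closure ⟨algebraMap R T.carrier r, T.g.commutes r⟩
    obtain ⟨u, v, -, rfl⟩ := IsFractionRing.div_surjective (R ⧸ p) c
    obtain ⟨u, rfl⟩ := Ideal.Quotient.mk_surjective u
    obtain ⟨v, rfl⟩ := Ideal.Quotient.mk_surjective v
    rw [map_div₀]
    simp only [Ideal.algebraMap_quotient_residueField_mk, ← IsScalarTower.algebraMap_apply]
    exact div_mem (hr u) (hr v)
  have hint : ∀ (T : FreeStage R L p) (a : L), IsIntegral T.field a := by
    intro T a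
    obtain ⟨q, hq, hqa⟩ := Algebra.IsIntegral.isIntegral (R := p.ResidueField) a
    refine ⟨q.map ((algebraMap _ L).codRestrict T.field (hk T)), hq.map _, ?_⟩
    rw [eval₂_map]
    exact hqa
  obtain ⟨n, v, hv⟩ := Module.Finite.exists_fin (R := p.ResidueField) (M := L)
  suffices h : ∀ s : Finset (Fin n), ∃ T : FreeStage R L p, ∀ i ∈ s, v i ∈ T.field by
    obtain ⟨T, hT⟩ := h Finset.univ
    refine ⟨T, top_unique fun y hy => ?_⟩
    clear hy
    have : y ∈ Submodule.span p.ResidueField (Set.range v) := hv ▸ Submodule.mem_top
    induction this using Submodule.span_induction with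
    | mem y hy => obtain ⟨i, rfl⟩ := hy; exact hT i (Finset.mem_univ _)
    | zero => exact zero_mem _
    | add a b _ _ ha hb => exact add_mem ha hb
    | smul c a _ ha => rw [Algebra.smul_def]; exact mul_mem (hk T c) ha
  intro s
  induction s using Finset.induction with
  | empty => exact ⟨T₀, by simp⟩
  | insert i s _ ih =>
    obtain ⟨T, hT⟩ := ih
    obtain ⟨T', hle, hi⟩ := T.step (v i) (hint T (v i))
    exact ⟨T', fun j hj => (Finset.mem_insert.1 hj).elim (fun h => h ▸ hi) fun h => hle (hT j h)⟩

end Groth.Agent.CAlgFlatExt
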