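import Groth.Agent.CAlgFlatExt.System
import Mathlib.FieldTheory.IntermediateField.Adjoin.Algebra
import Mathlib.FieldTheory.Minpoly.Field
import Mathlib.Algebra.Polynomial.Lifts
import Mathlib.SetTheory.Cardinal.Order
import Mathlib.RingTheory.AlgebraicIndependent.TranscendenceBasis
import Mathlib.RingTheory.Localization.AtPrime.Basic

/-! Flat local extensions with prescribed residue field. -/

namespace Groth.Agent.CAlgFlatExt

open MvPolynomial IsLocalRing

universe u

/-- A flat local ring map lifting a given map to a field. -/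
structure Lift {A : Type u} [CommRing A] [IsLocalRing A] {K : Type u} [Field K] (g : A →+* K) where
  carrier : Type u
  [commRing : CommRing carrier]
  [isLocalRing : IsLocalRing carrier]
  φ : A →+* carrier
  ψ : carrier →+* K
  flat : φ.Flat
  map_maximalIdeal : (maximalIdeal A).map φ = maximalIdeal carrier
  ker_ψ : RingHom.ker ψ = maximalIdeal carrier
  comp : ψ.comp φ = g

attribute [instance] Lift.commRing Lift.isLocalRing

namespace Lift

variable {A : Type u} [CommRing A] [IsLocalRing A] {K : Type u} [Field K] {g : A →+* K}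

lemma isLocalHom (L : Lift g) : IsLocalHom L.φ :=
  ((IsLocalRing.local_hom_TFAE L.φ).out 0 2).2 L.map_maximalIdeal.le

/-- Lifts compose. -/
noncomputable def trans (L : Lift g) (L' : Lift L.ψ) : Lift g where
  carrier := L'.carrier
  φ := L'.φ.comp L.φ
  ψ := L'.ψ
  flat := L.flat.comp L'.flat
  map_maximalIdeal := by rw [← Ideal.map_map, L.map_maximalIdeal, L'.map_maximalIdeal]
  ker_ψ := L'.ker_ψ
  comp := by rw [← RingHom.comp_assoc, L'.comp, L.comp]

end Lift

variable {A : Type u} [CommRing A] [IsLocalRing A] {K : Type u} [Field K] {g : A →+* K}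

/-- The lift given by a minimal system. -/
theorem exists_lift_of_gen (hker : RingHom.ker g = maximalIdeal A)
    (halg : ∀ y : K, ∃ p : Polynomial A, p.map g ≠ 0 ∧ p.eval₂ g y = 0)
    {ι : Type u} (x : ι → K) (hgen : Subring.closure (Set.range g ∪ Set.range x) = ⊤) :
    ∃ L : Lift g, Function.Surjective L.ψ ∧
      (IsNoetherianRing A → IsNoetherianRing L.carrier) ∧
      (Finite ι → L.φ.Finite) := by
  classical
  obtain ⟨_, _⟩ := exists_wellFoundedLT ι
  let _ : Algebra A K := g.toAlgebra
  let _ : Algebra (ResidueField A) K := (Ideal.Quotient.lift (maximalIdeal A) g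
    (fun r hr => by rwa [← RingHom.mem_ker, hker])).toAlgebra
  have : IsScalarTower A (ResidueField A) K := .of_algebraMap_eq fun _ => rfl
  have : Algebra.IsAlgebraic (ResidueField A) K := ⟨fun y => by
    obtain ⟨p, hp0, hp⟩ := halg y
    refine ⟨p.map (algebraMap A (ResidueField A)), fun h => hp0 ?_, ?_⟩
    · rw [show g = (algebraMap (ResidueField A) K).comp (algebraMap A (ResidueField A)) from rfl,
        ← Polynomial.map_map, h, Polynomial.map_zero]
    · rw [Polynomial.aeval_map_algebraMap]
      exact hp⟩
  let L : ι → IntermediateField (ResidueField A) K := fun a =>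
    IntermediateField.adjoin (ResidueField A) (x '' Set.Iio a)
  have hmem : ∀ a (z : Base A a), aeval x (z : MvPolynomial ι A) ∈ L a := by
    intro a z
    have : supported A (Set.Iio a) ≤ ((L a).toSubalgebra.restrictScalars A).comap (aeval x) :=
      Algebra.adjoin_le (by
        rintro _ ⟨b, hb, rfl⟩
        show aeval x (X b) ∈ L a
        rw [aeval_X]
        exact IntermediateField.subset_adjoin _ _ ⟨b, hb, rfl⟩)
    exact this z.2
  let res : (a : ι) → Base A a →+* L a := fun a =>
    ((aeval x).toRingHom.comp (Base A a).val.toRingHom).codRestrict (L a) (hmem a)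
  have hres : ∀ a, Function.Surjective (res a) := by
    intro a ⟨y, hy⟩
    have h1 : y ∈ Algebra.adjoin (ResidueField A) (x '' Set.Iio a) := by
      rw [← IntermediateField.adjoin_toSubalgebra]
      exact hy
    suffices ∃ z ∈ supported A (Set.Iio a), aeval x z = y by
      obtain ⟨z, hz, hzy⟩ := this
      exact ⟨⟨z, hz⟩, Subtype.ext hzy⟩
    clear hy
    induction h1 using Algebra.adjoin_induction with
    | mem y hy =>
      obtain ⟨b, hb, rfl⟩ := hy
      exact ⟨X b, Algebra.subset_adjoin ⟨b, hb, rfl⟩, aeval_X _ _⟩
    | algebraMap r =>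
      obtain ⟨r, rfl⟩ := Ideal.Quotient.mk_surjective r
      exact ⟨C r, Subalgebra.algebraMap_mem _ r, aeval_C _ _⟩
    | add a b _ _ ha hb =>
      obtain ⟨z, hz, rfl⟩ := ha
      obtain ⟨w, hw, rfl⟩ := hb
      exact ⟨z + w, add_mem hz hw, map_add _ _ _⟩
    | mul a b _ _ ha hb =>
      obtain ⟨z, hz, rfl⟩ := ha
      obtain ⟨w, hw, rfl⟩ := hb
      exact ⟨z * w, mul_mem hz hw, map_mul _ _ _⟩
  have hint : ∀ a, IsIntegral (L a) (x a) := fun a =>
    (Algebra.IsIntegral.isIntegral (R := ResidueField A) (x a)).tower_top
  have hex : ∀ a, ∃ q : Polynomial (Base A a), q.map (res a) = minpoly (L a) (x a) ∧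
      q.degree = (minpoly (L a) (x a)).degree ∧ q.Monic := fun a =>
    Polynomial.lifts_and_degree_eq_and_monic (Polynomial.map_surjective _ (hres a) _)
      (minpoly.monic (hint a))
  choose f hfmap hfdeg hfmon using hex
  have heval : ∀ a (r : Polynomial (Base A a)), aeval x (Polynomial.aeval (X a : MvPolynomial ι A) r) =
      Polynomial.aeval (x a) (r.map (res a)) := by
    intro a r
    conv_lhs =>
      rw [Polynomial.aeval_def, show ∀ z, aeval x z = (aeval (R := A) x).toRingHom z from fun _ => rfl,
        Polynomial.hom_eval₂]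
    rw [Polynomial.aeval_def, Polynomial.eval₂_map, show (aeval (R := A) x).toRingHom (X a) = x a from aeval_X x a]
    congr 1
  have h : IsMinimal f x := by
    refine ⟨hfmon, fun a => ?_, fun a r hr h0 n => ?_⟩
    · rw [rel, heval, hfmap, minpoly.aeval]
    · rw [heval] at h0
      have hz : r.map (res a) = 0 := by
        by_contra hne
        have := minpoly.degree_le_of_ne_zero (L a) (x a) hne h0
        have := (this.trans Polynomial.degree_map_le).trans_lt hr
        rw [hfdeg] at this
        exact lt_irrefl _ this
      have := congrArg (fun p => ((p.coeff n : L a) : K)) hz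
      simpa [res] using this
  have hgenA : Algebra.adjoin A (Set.range x) = ⊤ := by
    rw [eq_top_iff]
    intro y _
    have : y ∈ Subring.closure (Set.range g ∪ Set.range x) := hgen ▸ trivial
    rw [← Subalgebra.mem_toSubring, Algebra.adjoin_eq_ring_closure]
    exact this
  have hker' : RingHom.ker (algebraMap A K) = maximalIdeal A := hker
  have := h.isLocalRing hker' hgenA
  refine ⟨{ carrier := SysQuot f, φ := algebraMap A (SysQuot f), ψ := h.toResidue.toRingHom,
            flat := RingHom.flat_algebraMap_iff.2 (flat_quotient f h.monic),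
            map_maximalIdeal := by
              rw [h.maximalIdeal_eq hker' hgenA, h.ker_toResidue hker']
            ker_ψ := (h.maximalIdeal_eq hker' hgenA).symm,
            comp := h.toResidue.comp_algebraMap },
    h.toResidue_surjective hgenA, fun _ => h.isNoetherianRing hker' hgenA, fun _ => ?_⟩
  exact RingHom.finite_algebraMap.2 h.finite

theorem exists_lift_algebraic (hker : RingHom.ker g = maximalIdeal A)
    (halg : ∀ y : K, ∃ p : Polynomial A, p.map g ≠ 0 ∧ p.eval₂ g y = 0) :
    ∃ L : Lift g, Function.Surjective L.ψ ∧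
      (IsNoetherianRing A → IsNoetherianRing L.carrier) := by
  obtain ⟨L, h1, h2, -⟩ := exists_lift_of_gen hker halg (id : K → K)
    (top_unique (by simp [Set.range_id]))
  exact ⟨L, h1, h2⟩

theorem exists_lift_finite [Algebra (ResidueField A) K] [Module.Finite (ResidueField A) K] :
    ∃ L : Lift ((algebraMap (ResidueField A) K).comp (residue A)),
      Function.Surjective L.ψ ∧ L.φ.Finite := by
  obtain ⟨n, v, hv⟩ := Module.Finite.exists_fin (R := ResidueField A) (M := K)
  have hsurj : Function.Surjective (residue A) := residue_surjective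
  obtain ⟨L, h1, -, h3⟩ := exists_lift_of_gen
    (g := (algebraMap (ResidueField A) K).comp (residue A)) (by
      rw [RingHom.ker_comp_of_injective _ (algebraMap (ResidueField A) K).injective, ker_residue])
    (fun y => by
      obtain ⟨p, hp, hpy⟩ := (Algebra.IsIntegral.isIntegral (R := ResidueField A) y)
      obtain ⟨q, hq⟩ := Polynomial.map_surjective _ hsurj p
      refine ⟨q, ?_, ?_⟩
      · rw [← Polynomial.map_map, hq]; exact (hp.map _).ne_zero
      · rw [← Polynomial.eval₂_map, hq]; exact hpy)
    (fun i : ULift.{u} (Fin n) => v i.down) (by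
      refine top_unique fun y hy => ?_
      clear hy
      have : y ∈ Submodule.span (ResidueField A) (Set.range v) := hv ▸ trivial
      induction this using Submodule.span_induction with
      | mem y hy =>
        obtain ⟨i, rfl⟩ := hy
        exact Subring.subset_closure (Or.inr ⟨⟨i⟩, rfl⟩)
      | zero => exact zero_mem _
      | add a b _ _ ha hb => exact add_mem ha hb
      | smul c a _ ha =>
        obtain ⟨c, rfl⟩ := hsurj c
        rw [Algebra.smul_def]
        exact mul_mem (Subring.subset_closure (Or.inl ⟨c, rfl⟩)) ha)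
  exact ⟨L, h1, h3 inferInstance⟩

end Groth.Agent.CAlgFlatExt
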