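import Groth.Agent.CAlgFlatExt.Lift
import Mathlib.RingTheory.Flat.Stability
import Mathlib.RingTheory.Flat.Localization
import Mathlib.RingTheory.AlgebraicIndependent.Basic
import Mathlib.Algebra.MvPolynomial.Rename
import Mathlib.Algebra.MvPolynomial.Equiv

/-! Flat local extensions with arbitrary prescribed residue field extension. -/

namespace Groth.Agent.CAlgFlatExt

open MvPolynomial IsLocalRing

universe u

theorem flat_rename_val {A : Type u} [CommRing A] {T : Type u} (t : Set T) :
    (rename (R := A) ((↑) : t → T)).toRingHom.Flat := by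
  classical
  let e : MvPolynomial T A ≃ₐ[A] MvPolynomial {b // b ∉ t} (MvPolynomial t A) :=
    (renameEquiv A ((Equiv.sumCompl (· ∈ t)).symm.trans (Equiv.sumComm _ _))).trans
      (sumAlgEquiv A _ _)
  have h : (rename (R := A) ((↑) : t → T)).toRingHom =
      e.symm.toRingEquiv.toRingHom.comp (C : MvPolynomial t A →+* _) := by
    refine MvPolynomial.ringHom_ext (fun r => ?_) fun b => ?_
    · apply e.injective
      simp [e]
    · apply e.injective
      simp [e, Equiv.sumCompl_symm_apply_of_pos b.2]
  rw [h]
  refine RingHom.Flat.comp ?_ (RingHom.Flat.of_bijective e.symm.bijective)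
  rw [show (C : MvPolynomial t A →+* MvPolynomial {b // b ∉ t} (MvPolynomial t A)) =
    algebraMap _ _ from rfl, RingHom.flat_algebraMap_iff]
  infer_instance

variable {A : Type u} [CommRing A] [IsLocalRing A] {K : Type u} [Field K] {g : A →+* K}

omit [IsLocalRing A] in
theorem ker_eq_maximalIdeal {P : Type u} [CommRing P] (ev : P →+* K) [(RingHom.ker ev).IsPrime]
    (S : Type u) [CommRing S] [Algebra P S] [IsLocalization.AtPrime S (RingHom.ker ev)] [IsLocalRing S]
    (ψ : S →+* K) (h : ∀ z, ψ (algebraMap P S z) = ev z) :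
    RingHom.ker ψ = maximalIdeal S := by
  refine ((maximalIdeal.isMaximal S).eq_of_le (RingHom.ker_ne_top ψ) ?_).symm
  rw [← IsLocalization.AtPrime.map_eq_maximalIdeal (RingHom.ker ev) S, Ideal.map_le_iff_le_comap]
  intro r hr
  rw [Ideal.mem_comap, RingHom.mem_ker, h]
  exact hr

set_option maxHeartbeats 400000 in
theorem exists_lift_transcendental (hker : RingHom.ker g = maximalIdeal A) {T : Type u} (x : T → K)
    (hx : Function.Injective (eval₂Hom (Ideal.Quotient.lift (maximalIdeal A) g
      (fun r hr => by rwa [← RingHom.mem_ker, hker])) x)) :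
    ∃ L : Lift g, (IsNoetherianRing A → IsNoetherianRing L.carrier) ∧
      Set.range x ⊆ Set.range L.ψ := by
  classical
  let ev : MvPolynomial T A →+* K := eval₂Hom g x
  let pr : Ideal (MvPolynomial T A) := RingHom.ker ev
  have hpr : pr = (maximalIdeal A).map C := by
    have : ev = (eval₂Hom (Ideal.Quotient.lift (maximalIdeal A) g
      (fun r hr => by rwa [← RingHom.mem_ker, hker])) x).comp
        (MvPolynomial.map (Ideal.Quotient.mk (maximalIdeal A))) := by
      refine MvPolynomial.ringHom_ext (fun r => ?_) fun b => ?_ <;> simp [ev]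
    show RingHom.ker ev = _
    rw [this, RingHom.ker_comp_of_injective _ hx, MvPolynomial.ker_map, Ideal.mk_ker]
  have : pr.IsPrime := RingHom.ker_isPrime ev
  let A₁ := Localization.AtPrime pr
  let φ : A →+* A₁ := (algebraMap (MvPolynomial T A) A₁).comp C
  let ψ : A₁ →+* K := IsLocalization.lift (M := pr.primeCompl) (g := ev)
    fun s => isUnit_iff_ne_zero.2 fun h => s.2 h
  have hψ : ∀ z, ψ (algebraMap _ A₁ z) = ev z := IsLocalization.lift_eq _
  have hmax : (maximalIdeal A).map φ = maximalIdeal A₁ := by
    rw [← Ideal.map_map, ← hpr, Localization.AtPrime.map_eq_maximalIdeal]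
  have hker₁ : RingHom.ker ψ = maximalIdeal A₁ :=
    ker_eq_maximalIdeal ev A₁ ψ hψ
  refine ⟨{ carrier := A₁, φ := φ, ψ := ψ,
            flat := RingHom.Flat.comp
              (RingHom.flat_algebraMap_iff.2 (inferInstance : Module.Flat A (MvPolynomial T A)))
              (RingHom.flat_algebraMap_iff.2 (IsLocalization.flat A₁ pr.primeCompl)),
            map_maximalIdeal := hmax, ker_ψ := hker₁,
            comp := RingHom.ext fun r => (hψ _).trans (by simp [ev]) }, fun hA => ?_, ?_⟩
  · refine isNoetherianRing_of_local.{u, u} (B := A₁)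
      (by rw [← hmax]; exact ((maximalIdeal A).fg_of_isNoetherianRing).map _) fun s => ?_
    choose a b hab using fun z : A₁ => IsLocalization.exists_mk'_eq pr.primeCompl z
    let t : Finset T := s.biUnion fun z => (a z).vars ∪ (b z : MvPolynomial T A).vars
    let r : MvPolynomial (t : Set T) A →+* MvPolynomial T A := (rename (R := A) (↑)).toRingHom
    let qt : Ideal (MvPolynomial (t : Set T) A) := pr.comap r
    have : qt.IsPrime := Ideal.IsPrime.comap r
    have : IsNoetherianRing (Localization.AtPrime qt) :=
      IsLocalization.isNoetherianRing qt.primeCompl _ inferInstance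
    refine ⟨Localization.AtPrime qt, inferInstance, inferInstance, inferInstance,
      Localization.localRingHom qt pr r rfl, RingHom.Flat.localRingHom (flat_rename_val _) pr qt rfl,
      Localization.isLocalHom_localRingHom qt pr r rfl, ?_, fun z hz => ?_⟩
    · refine le_antisymm (((IsLocalRing.local_hom_TFAE _).out 0 2).1
        (Localization.isLocalHom_localRingHom qt pr r rfl)) ?_
      rw [← hmax, Ideal.map_le_iff_le_comap]
      intro c hc
      rw [← hker, RingHom.mem_ker] at hc
      have h1 : (C c : MvPolynomial (t : Set T) A) ∈ qt := by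
        show ev (r (C c)) = 0
        simp [ev, r, hc]
      have := Ideal.mem_map_of_mem (Localization.localRingHom qt pr r rfl)
        (Localization.AtPrime.map_eq_maximalIdeal (I := qt) ▸ Ideal.mem_map_of_mem _ h1)
      rw [Localization.localRingHom_to_map] at this
      rw [show r (C c) = C c from rename_C _ c] at this
      exact this
    · have hsub : ∀ p : MvPolynomial T A, p.vars ⊆ t → ∃ p', r p' = p := fun p hp =>
        exists_rename_eq_of_vars_subset_range p _ Subtype.val_injective
          (fun k hk => ⟨⟨k, hp hk⟩, rfl⟩)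
      have hz' := Finset.subset_biUnion_of_mem
        (fun z => (a z).vars ∪ (b z : MvPolynomial T A).vars) hz
      obtain ⟨a', ha'⟩ := hsub (a z) (Finset.subset_union_left.trans hz')
      obtain ⟨b', hb'⟩ := hsub (b z) (Finset.subset_union_right.trans hz')
      refine ⟨IsLocalization.mk' _ a' (⟨b', fun h => (b z).2 (hb' ▸ h)⟩ : qt.primeCompl), ?_⟩
      rw [Localization.localRingHom_mk']
      simp only [ha', hb']
      exact hab z
  · rintro _ ⟨b, rfl⟩
    exact ⟨algebraMap _ A₁ (X b), (hψ _).trans (by simp [ev])⟩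

theorem exists_lift (hker : RingHom.ker g = maximalIdeal A) :
    ∃ L : Lift g, Function.Surjective L.ψ ∧
      (IsNoetherianRing A → IsNoetherianRing L.carrier) := by
  let k := ResidueField A
  let _ : Algebra k K := (Ideal.Quotient.lift (maximalIdeal A) g
    (fun r hr => by rwa [← RingHom.mem_ker, hker])).toAlgebra
  obtain ⟨T, x, hx⟩ := exists_isTranscendenceBasis' k K
  obtain ⟨L₁, hnoe₁, hr⟩ := exists_lift_transcendental hker x hx.1
  obtain ⟨L₂, hs, hnoe₂⟩ := exists_lift_algebraic (g := L₁.ψ) L₁.ker_ψ fun y => by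
    obtain ⟨p, hp0, hp⟩ := hx.isAlgebraic.1 y
    have hmem : ∀ z ∈ Algebra.adjoin k (Set.range x), z ∈ Set.range L₁.ψ := by
      intro z hz
      induction hz using Algebra.adjoin_induction with
      | mem z hz => exact hr hz
      | algebraMap r =>
        obtain ⟨r, rfl⟩ := Ideal.Quotient.mk_surjective r
        exact ⟨L₁.φ r, by rw [← RingHom.comp_apply, L₁.comp]; rfl⟩
      | add a b _ _ ha hb =>
        obtain ⟨a, rfl⟩ := ha
        obtain ⟨b, rfl⟩ := hb
        exact ⟨a + b, map_add _ _ _⟩
      | mul a b _ _ ha hb =>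
        obtain ⟨a, rfl⟩ := ha
        obtain ⟨b, rfl⟩ := hb
        exact ⟨a * b, map_mul _ _ _⟩
    obtain ⟨q, hq⟩ : p.map (algebraMap (Algebra.adjoin k (Set.range x)) K) ∈
        Polynomial.lifts L₁.ψ := by
      rw [Polynomial.lifts_iff_coeff_lifts]
      intro n
      rw [Polynomial.coeff_map]
      exact hmem _ (p.coeff n).2
    refine ⟨q, ?_, ?_⟩
    · rw [← Polynomial.coe_mapRingHom, hq]
      exact (Polynomial.map_ne_zero_iff Subtype.val_injective).2 hp0
    · rw [← Polynomial.eval_map, ← Polynomial.coe_mapRingHom, hq, Polynomial.eval_map]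
      exact hp
  exact ⟨L₁.trans L₂, hs, fun h => hnoe₂ (hnoe₁ h)⟩

end Groth.Agent.CAlgFlatExt
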