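import Groth.Agent.AdicRing.Noetherian
import Mathlib.RingTheory.AdicCompletion.LocalRing
import Mathlib.RingTheory.Filtration
import Mathlib.RingTheory.Flat.FaithfullyFlat.Algebra
import Mathlib.RingTheory.RingHom.Flat

/-! A local ring that is a union of images of noetherian local rings, flat and unramified, is noetherian. -/

namespace Groth.Agent.CAlgFlatExt

open IsLocalRing

universe u v

variable {B : Type u} [CommRing B] [IsLocalRing B]

theorem isNoetherianRing_completion (hfg : (maximalIdeal B).FG) :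
    IsNoetherianRing (AdicCompletion (maximalIdeal B) B) := by
  set m := maximalIdeal B
  have := AdicCompletion.isAdicComplete_self m hfg
  have : IsNoetherianRing (B ⧸ m) := by
    let _ := Ideal.Quotient.field m
    infer_instance
  have : IsNoetherianRing (AdicCompletion m B ⧸ m.map (algebraMap B (AdicCompletion m B))) :=
    isNoetherianRing_of_ringEquiv (B ⧸ m)
      ((RingHom.quotientKerEquivOfSurjective (f := (AdicCompletion.evalOneₐ m).toRingHom)
        (AdicCompletion.evalOneₐ_surjective m)).symm.trans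
          (Ideal.quotEquivOfEq (AdicCompletion.ker_evalOneₐ_eq_map m hfg)))
  exact Groth.Agent.AdicRing.isNoetherianRing_of_isAdicComplete
    (m.map (algebraMap B (AdicCompletion m B))) (hfg.map _)

theorem exists_fg_le_sup_pow (hfg : (maximalIdeal B).FG) (I : Ideal B) :
    ∃ s : Finset B, ↑s ⊆ (I : Set B) ∧
      ∀ y ∈ I, ∀ n : ℕ, y ∈ Ideal.span (s : Set B) ⊔ maximalIdeal B ^ n := by
  classical
  have := isNoetherianRing_completion hfg
  set m := maximalIdeal B
  obtain ⟨t, ht, hspan⟩ := Submodule.fg_span_iff_fg_span_finset_subset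
    (R := AdicCompletion m B) (algebraMap B (AdicCompletion m B) '' (I : Set B)) |>.1
      (IsNoetherian.noetherian _)
  obtain ⟨s, hs, rfl⟩ := Finset.subset_set_image_iff.1 ht
  refine ⟨s, hs, fun y hy n => ?_⟩
  have hy' : algebraMap B (AdicCompletion m B) y ∈
      (Ideal.span (s : Set B)).map (algebraMap B (AdicCompletion m B)) := by
    rw [Ideal.map_span]
    have : algebraMap B (AdicCompletion m B) y ∈
        Submodule.span (AdicCompletion m B) (algebraMap B (AdicCompletion m B) '' (I : Set B)) :=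
      Submodule.subset_span ⟨y, hy, rfl⟩
    rw [hspan, Finset.coe_image] at this
    exact this
  have h2 := Ideal.mem_map_of_mem (AdicCompletion.evalₐ m n).toRingHom hy'
  rw [Ideal.map_map, show (AdicCompletion.evalₐ m n).toRingHom.comp (algebraMap B (AdicCompletion m B)) =
    algebraMap B (B ⧸ m ^ n) from (AdicCompletion.evalₐ m n).comp_algebraMap] at h2
  change (AdicCompletion.evalₐ m n) (algebraMap B (AdicCompletion m B) y) ∈ _ at h2
  rw [AlgHom.commutes] at h2
  rw [Ideal.Quotient.algebraMap_eq, Ideal.mem_quotient_iff_mem_sup] at h2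
  exact h2

theorem isNoetherianRing_of_contracted (hfg : (maximalIdeal B).FG)
    (h : ∀ s : Finset B, ∃ (A' : Type v) (_ : CommRing A') (_ : IsLocalRing A')
      (_ : IsNoetherianRing A') (φ : A' →+* B), (∀ J : Ideal A', (J.map φ).comap φ = J) ∧
      (maximalIdeal A').map φ = maximalIdeal B ∧ (s : Set B) ⊆ Set.range φ) :
    IsNoetherianRing B := by
  classical
  refine isNoetherianRing_iff_ideal_fg B |>.2 fun I => ?_
  obtain ⟨s, hsI, hs⟩ := exists_fg_le_sup_pow hfg I
  refine ⟨s, le_antisymm (Ideal.span_le.2 hsI) fun y hy => ?_⟩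
  obtain ⟨A', _, _, _, φ, hctr, hmax, hrange⟩ := h (insert y s)
  rw [Finset.coe_insert, Set.insert_subset_iff] at hrange
  obtain ⟨⟨y', rfl⟩, hsr⟩ := hrange
  obtain ⟨s', hs'⟩ : ∃ s' : Set A', φ '' s' = s := Set.subset_range_iff_exists_image_eq.1 hsr |>.imp fun _ h => h
  have hy' : ∀ n : ℕ, y' ∈ Ideal.span s' ⊔ maximalIdeal A' ^ n := by
    intro n
    have := hs _ hy n
    rw [← hs', ← Ideal.map_span, ← hmax, ← Ideal.map_pow, ← Ideal.map_sup, ← Ideal.mem_comap] at this
    rwa [hctr] at this
  have hmem : y' ∈ Ideal.span s' := by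
    rw [← Ideal.Quotient.eq_zero_iff_mem]
    have h0 : Ideal.Quotient.mk (Ideal.span s') y' ∈
        (⨅ n : ℕ, maximalIdeal A' ^ n • ⊤ : Submodule A' (A' ⧸ Ideal.span s')) := by
      refine (Submodule.mem_iInf _).2 fun n => ?_
      rw [Ideal.smul_top_eq_map, Submodule.restrictScalars_mem, Ideal.Quotient.algebraMap_eq,
        Ideal.mem_quotient_iff_mem_sup, sup_comm]
      exact hy' n
    rwa [Ideal.iInf_pow_smul_eq_bot_of_isLocalRing _ (maximalIdeal.isMaximal A').ne_top,
      Submodule.mem_bot] at h0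
  rw [← hs', ← Ideal.map_span]
  exact Ideal.mem_map_of_mem φ hmem

theorem comap_map_eq_of_flat {A' : Type v} [CommRing A'] [IsLocalRing A'] (φ : A' →+* B)
    (hflat : φ.Flat) [IsLocalHom φ] (J : Ideal A') : (J.map φ).comap φ = J := by
  algebraize [φ]
  have : IsLocalHom (algebraMap A' B) := ‹IsLocalHom φ›
  have : Module.FaithfullyFlat A' B := Module.FaithfullyFlat.of_flat_of_isLocalHom
  exact Ideal.comap_map_eq_self_of_faithfullyFlat J

theorem isNoetherianRing_of_local (hfg : (maximalIdeal B).FG)
    (h : ∀ s : Finset B, ∃ (A' : Type v) (_ : CommRing A') (_ : IsLocalRing A')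
      (_ : IsNoetherianRing A') (φ : A' →+* B), φ.Flat ∧ IsLocalHom φ ∧
      (maximalIdeal A').map φ = maximalIdeal B ∧ (s : Set B) ⊆ Set.range φ) :
    IsNoetherianRing B :=
  isNoetherianRing_of_contracted hfg fun s => by
    obtain ⟨A', _, _, _, φ, hflat, hloc, hmax, hs⟩ := h s
    exact ⟨A', inferInstance, inferInstance, inferInstance, φ,
      comap_map_eq_of_flat φ hflat, hmax, hs⟩

end Groth.Agent.CAlgFlatExt
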