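import Groth.Agent.CAlgFlatExt.Contraction
import Groth.Agent.CAlgFlatExt.NoetherianCriterion
import Mathlib.RingTheory.Ideal.GoingUp
import Mathlib.RingTheory.Polynomial.Basic
import Mathlib.RingTheory.FiniteType
import Mathlib.RingTheory.LocalRing.ResidueField.Basic

/-! The algebra cut out by a minimal triangular system over a local ring. -/

namespace Groth.Agent.CAlgFlatExt

open MvPolynomial

universe u

variable {A : Type u} [CommRing A] [IsLocalRing A] {ι : Type u} [LinearOrder ι] [WellFoundedLT ι]
variable {K : Type u} [Field K] [Algebra A K]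
variable (f : (a : ι) → Polynomial (Base A a)) (x : ι → K)

/-- The algebra cut out by the system. -/
abbrev SysQuot : Type u := MvPolynomial ι A ⧸ relIdeal f Set.univ

variable {f x}

omit [WellFoundedLT ι] [IsLocalRing A] in
lemma IsMinimal.natDegree_pos (h : IsMinimal f x) (a : ι) : 0 < (f a).natDegree := by
  by_contra hd
  have h1 := (h.monic a).natDegree_eq_zero.1 (by omega)
  have := h.vanish a
  simp [rel, h1] at this

variable (h : IsMinimal f x)

/-- The map to the residue field. -/
noncomputable def IsMinimal.toResidue : SysQuot f →ₐ[A] K :=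
  Ideal.Quotient.liftₐ _ (aeval x) fun z hz => by
    have : relIdeal f Set.univ ≤ RingHom.ker (aeval (R := A) x).toRingHom :=
      Ideal.span_le.2 fun w ⟨a, _, ha⟩ => ha ▸ h.vanish a
    exact this hz

omit [WellFoundedLT ι] [IsLocalRing A] in
lemma IsMinimal.toResidue_mk (z : MvPolynomial ι A) :
    h.toResidue (Ideal.Quotient.mk _ z) = aeval x z := rfl

omit [WellFoundedLT ι] [IsLocalRing A] in
lemma IsMinimal.toResidue_surjective (hgen : Algebra.adjoin A (Set.range x) = ⊤) :
    Function.Surjective h.toResidue := by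
  intro y
  obtain ⟨z, hz⟩ : y ∈ (aeval (R := A) x).range := by
    rw [← Algebra.adjoin_range_eq_range_aeval, hgen]; trivial
  exact ⟨Ideal.Quotient.mk _ z, hz⟩

variable (hker : RingHom.ker (algebraMap A K) = IsLocalRing.maximalIdeal A)

include hker in
lemma IsMinimal.ker_toResidue :
    RingHom.ker h.toResidue = (IsLocalRing.maximalIdeal A).map (algebraMap A (SysQuot f)) := by
  have hcomp : algebraMap A (SysQuot f) = (Ideal.Quotient.mk (relIdeal f Set.univ)).comp C := rfl
  refine le_antisymm (fun z hz => ?_) (Ideal.map_le_iff_le_comap.2 fun r hr => ?_)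
  · obtain ⟨z, rfl⟩ := Ideal.Quotient.mk_surjective z
    have hz' : z ∈ RingHom.ker (aeval (R := A) x).toRingHom := hz
    rw [ker_aeval_eq f x h, hker] at hz'
    rw [hcomp, ← Ideal.map_map, Ideal.mem_quotient_iff_mem_sup, sup_comm]
    exact hz'
  · have hr' : r ∈ RingHom.ker (algebraMap A K) := hker ▸ hr
    show h.toResidue (algebraMap A (SysQuot f) r) = 0
    rw [AlgHom.commutes]
    exact hr'

include h in
lemma IsMinimal.isIntegral : Algebra.IsIntegral A (SysQuot f) := by
  let B₀ := integralClosure A (SysQuot f)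
  let q := Ideal.Quotient.mkₐ A (relIdeal f Set.univ)
  have key : ∀ a, q (X a) ∈ B₀ := by
    intro a
    induction a using WellFoundedLT.induction with
    | ind a ih =>
      have hb : ∀ z : Base A a, q z.1 ∈ B₀ := fun z => by
        have : supported A (Set.Iio a) ≤ B₀.comap q :=
          Algebra.adjoin_le (by rintro _ ⟨b, hb, rfl⟩; exact ih b hb)
        exact this z.2
      let g : Base A a →ₐ[A] B₀ := (q.comp (Base A a).val).codRestrict B₀ hb
      have hint : IsIntegral B₀ (q (X a)) := by
        refine ⟨(f a).map g.toRingHom, (h.monic a).map _, ?_⟩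
        rw [Polynomial.eval₂_map]
        have : (algebraMap B₀ (SysQuot f)).comp g.toRingHom =
            q.toRingHom.comp (algebraMap (Base A a) (MvPolynomial ι A)) := RingHom.ext fun _ => rfl
        rw [this, show (q (X a)) = q.toRingHom (X a) from rfl, ← Polynomial.hom_eval₂]
        exact Ideal.Quotient.eq_zero_iff_mem.2 (Ideal.subset_span ⟨a, trivial, rfl⟩)
      have : Algebra.IsIntegral A B₀ := ⟨fun z => (isIntegral_algHom_iff B₀.val
        Subtype.val_injective).1 ((mem_integralClosure_iff A _).1 z.2)⟩
      exact isIntegral_trans _ hint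
  refine ⟨fun z => ?_⟩
  obtain ⟨z, rfl⟩ := Ideal.Quotient.mk_surjective z
  induction z using MvPolynomial.induction_on with
  | C r => exact (isIntegral_algebraMap : IsIntegral A (algebraMap A (SysQuot f) r))
  | add p r hp hr => rw [map_add]; exact hp.add hr
  | mul_X p n hp => rw [map_mul]; exact hp.mul (key n)

include h hker in
lemma IsMinimal.ker_toResidue_eq_of_isMaximal (M : Ideal (SysQuot f)) (hM : M.IsMaximal)
    (hgen : Algebra.adjoin A (Set.range x) = ⊤) : M = RingHom.ker h.toResidue := by
  have := h.isIntegral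
  have := Ideal.isMaximal_comap_of_isIntegral_of_isMaximal (R := A) M
  have hle : RingHom.ker h.toResidue ≤ M := by
    rw [h.ker_toResidue hker, Ideal.map_le_iff_le_comap, IsLocalRing.eq_maximalIdeal this]
  exact ((RingHom.ker_isMaximal_of_surjective _ (h.toResidue_surjective hgen)).eq_of_le
    hM.ne_top hle).symm

include h hker in
lemma IsMinimal.isLocalRing (hgen : Algebra.adjoin A (Set.range x) = ⊤) :
    IsLocalRing (SysQuot f) :=
  .of_unique_max_ideal ⟨_, RingHom.ker_isMaximal_of_surjective _ (h.toResidue_surjective hgen),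
    fun M hM => h.ker_toResidue_eq_of_isMaximal hker M hM hgen⟩

include h hker in
lemma IsMinimal.maximalIdeal_eq (hgen : Algebra.adjoin A (Set.range x) = ⊤)
    [IsLocalRing (SysQuot f)] :
    IsLocalRing.maximalIdeal (SysQuot f) = RingHom.ker h.toResidue :=
  h.ker_toResidue_eq_of_isMaximal hker _ (IsLocalRing.maximalIdeal.isMaximal _) hgen

include h in
lemma IsMinimal.finite [Finite ι] : Module.Finite A (SysQuot f) := by
  have := h.isIntegral
  have : Algebra.FiniteType A (SysQuot f) :=
    Algebra.FiniteType.of_surjective (Ideal.Quotient.mkₐ A _) Ideal.Quotient.mk_surjective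
  exact Algebra.IsIntegral.finite

omit [IsLocalRing A] in
include h in
lemma IsMinimal.comap_map_closed {t : Set ι} (ht : IsClosedSys f t)
    (J : Ideal ((supported A t).map (Ideal.Quotient.mkₐ A (relIdeal f Set.univ)))) :
    (J.map (Subalgebra.val _).toRingHom).comap (Subalgebra.val _).toRingHom = J := by
  classical
  let q := Ideal.Quotient.mkₐ A (relIdeal f Set.univ)
  let At := (supported A t).map q
  refine le_antisymm (fun y hy => ?_) Ideal.le_comap_map
  obtain ⟨y, hy'⟩ := y
  obtain ⟨z, hz, rfl⟩ := hy'
  let S : Set (MvPolynomial ι A) :=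
    {w | ∃ hw : w ∈ supported A t, (⟨q w, w, hw, rfl⟩ : At) ∈ J}
  have hS : S ⊆ supported A t := fun w hw => hw.1
  have hJ : J.map (At.val).toRingHom ≤ (Ideal.span S).map q.toRingHom := by
    refine Ideal.map_le_iff_le_comap.2 fun w hw => ?_
    obtain ⟨w, w', hw', rfl⟩ := w
    exact Ideal.mem_map_of_mem q.toRingHom (Ideal.subset_span ⟨hw', hw⟩)
  have hmem : z ∈ relIdeal f Set.univ ⊔ Ideal.span S := by
    have := hJ hy
    change Ideal.Quotient.mk (relIdeal f Set.univ) z ∈
      (Ideal.span S).map (Ideal.Quotient.mk (relIdeal f Set.univ)) at this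
    rwa [Ideal.mem_quotient_iff_mem_sup, sup_comm] at this
  have hz' := eliminate f h.monic (fun a => h.natDegree_pos a) ht S hS z hz hmem
  let ρ : MvPolynomial ι A →ₐ[A] At :=
    aeval fun b => if hb : b ∈ t then ⟨q (X b), X b, Algebra.subset_adjoin (s := X '' t) ⟨b, hb, rfl⟩, rfl⟩ else 0
  have hρ : ∀ w ∈ supported A t, (ρ w : SysQuot f) = q w := by
    intro w hw
    induction hw using Algebra.adjoin_induction with
    | mem w hw => obtain ⟨b, hb, rfl⟩ := hw; simp [ρ, hb]
    | algebraMap r => simp
    | add a b _ _ ha hb => simp [ha, hb]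
    | mul a b _ _ ha hb => simp [ha, hb]
  have hle : Ideal.span (rel f '' t ∪ S) ≤ J.comap ρ.toRingHom := by
    refine Ideal.span_le.2 ?_
    rintro w (⟨b, hb, rfl⟩ | ⟨hw, hwJ⟩)
    · have : ρ (rel f b) = 0 := Subtype.ext <| by
        rw [hρ _ (rel_mem_of_closed f ht hb)]
        exact Ideal.Quotient.eq_zero_iff_mem.2 (Ideal.subset_span ⟨b, trivial, rfl⟩)
      show ρ (rel f b) ∈ J
      rw [this]; exact J.zero_mem
    · show ρ w ∈ J
      rwa [show ρ w = ⟨q w, w, hw, rfl⟩ from Subtype.ext (hρ w hw)]
  have := hle hz'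
  rwa [Ideal.mem_comap, show ρ.toRingHom z = ⟨q z, z, hz, rfl⟩ from Subtype.ext (hρ z hz)] at this

include h hker in
lemma IsMinimal.isNoetherianRing [IsNoetherianRing A]
    (hgen : Algebra.adjoin A (Set.range x) = ⊤) : IsNoetherianRing (SysQuot f) := by
  classical
  have := h.isLocalRing hker hgen
  have hmax : IsLocalRing.maximalIdeal (SysQuot f) =
      (IsLocalRing.maximalIdeal A).map (algebraMap A (SysQuot f)) := by
    rw [h.maximalIdeal_eq hker hgen, h.ker_toResidue hker]
  refine isNoetherianRing_of_contracted.{u, u}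
    (by rw [hmax]; exact ((IsLocalRing.maximalIdeal A).fg_of_isNoetherianRing).map _) fun s => ?_
  choose l hl using fun y : SysQuot f => Ideal.Quotient.mk_surjective y
  obtain ⟨t, hst, ht⟩ := exists_closed_finite f (s.biUnion fun y => (l y).vars)
  set q := Ideal.Quotient.mkₐ A (relIdeal f Set.univ)
  let At := (supported A (↑t : Set ι)).map q
  have : Algebra.FiniteType A At := by
    refine ⟨(Subalgebra.fg_top At).2 ?_⟩
    refine Subalgebra.FG.map _ ?_
    exact ⟨t.image X, by simp [supported]⟩
  have : IsNoetherianRing At := Algebra.FiniteType.isNoetherianRing A At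
  have hloc : IsLocalHom At.val.toRingHom := by
    refine RingHom.IsIntegral.isLocalHom ?_ Subtype.val_injective
    intro y
    have := h.isIntegral
    exact (Algebra.IsIntegral.isIntegral (R := A) y).tower_top (A := At)
  have : IsLocalRing At := At.val.toRingHom.domain_isLocalRing
  refine ⟨At, inferInstance, inferInstance, inferInstance, At.val.toRingHom,
    h.comap_map_closed ht, le_antisymm (((IsLocalRing.local_hom_TFAE _).out 0 2).1 hloc) ?_, ?_⟩
  · rw [hmax, show algebraMap A (SysQuot f) = At.val.toRingHom.comp (algebraMap A At) from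
      RingHom.ext fun _ => rfl, ← Ideal.map_map]
    refine Ideal.map_mono ((Ideal.map_le_iff_le_comap).2 fun r hr => ?_)
    refine (Ideal.mem_comap.2 fun hu => ?_)
    have h1 : IsUnit (algebraMap A (SysQuot f) r) := hu.map At.val.toRingHom
    have h2 : algebraMap A (SysQuot f) r ∈ IsLocalRing.maximalIdeal (SysQuot f) :=
      hmax ▸ Ideal.mem_map_of_mem _ hr
    exact h2 h1
  · intro y hy
    exact ⟨⟨q (l y), l y, mem_supported.2 (fun k hk => hst (Finset.mem_biUnion.2
      ⟨y, hy, hk⟩)), rfl⟩, hl y⟩

end Groth.Agent.CAlgFlatExt
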