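import Groth.Agent.CAlgML.Extra
import Mathlib.Algebra.MvPolynomial.Supported
import Mathlib.Algebra.Polynomial.Div
import Mathlib.Algebra.Polynomial.RingDivision
import Mathlib.RingTheory.Ideal.Quotient.Operations
import Mathlib.LinearAlgebra.TensorProduct.Quotient
import Mathlib.Order.WellFounded

/-! Quotients of polynomial rings by triangular systems of monic equations. -/

namespace Groth.Agent.CAlgFlatExt

open MvPolynomial

universe u

variable {A : Type u} [CommRing A] {ι : Type u} [LinearOrder ι] [WellFoundedLT ι]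

/-- The coefficient ring of the equation with index `a`. -/
noncomputable abbrev Base (A : Type u) [CommRing A] {ι : Type u} [LinearOrder ι] (a : ι) :
    Subalgebra A (MvPolynomial ι A) :=
  supported A (Set.Iio a)

variable (f : (a : ι) → Polynomial (Base A a))

/-- The equation with index `a`. -/
noncomputable def rel (a : ι) : MvPolynomial ι A := Polynomial.aeval (X a) (f a)

/-- The ideal of the equations with index in `s`. -/
noncomputable def relIdeal (s : Set ι) : Ideal (MvPolynomial ι A) := Ideal.span (rel f '' s)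

lemma supported_Iic_le_range (a : ι) :
    ∀ y ∈ supported A (Set.Iic a), ∃ Y : Polynomial (Base A a),
      Polynomial.aeval (X a : MvPolynomial ι A) Y = y := by
  intro y hy
  have : supported A (Set.Iic a) ≤
      ((Polynomial.aeval (R := Base A a) (X a : MvPolynomial ι A)).restrictScalars A).range := by
    refine Algebra.adjoin_le ?_
    rintro _ ⟨b, hb, rfl⟩
    rcases (Set.mem_Iic.1 hb).lt_or_eq with h | rfl
    · exact ⟨Polynomial.C ⟨X b, Algebra.subset_adjoin ⟨b, h, rfl⟩⟩, by simp⟩
    · exact ⟨Polynomial.X, by simp⟩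
  exact this hy

lemma aeval_mem_supported (a : ι) {s : Set ι} (hs : Set.Iic a ⊆ s) (Y : Polynomial (Base A a)) :
    Polynomial.aeval (X a : MvPolynomial ι A) Y ∈ supported A s := by
  induction Y using Polynomial.induction_on' with
  | add p q hp hq => rw [map_add]; exact add_mem hp hq
  | monomial n c =>
    rw [Polynomial.aeval_monomial]
    exact mul_mem (supported_mono ((Set.Iio_subset_Iic_self).trans hs) c.2)
      (pow_mem (Algebra.subset_adjoin (s := X '' s) ⟨a, hs le_rfl, rfl⟩) n)

lemma rel_mem_supported (a : ι) {s : Set ι} (hs : Set.Iic a ⊆ s) : rel f a ∈ supported A s :=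
  aeval_mem_supported a hs _

section Flat

variable (hmon : ∀ a, (f a).Monic)

include hmon in
lemma regular_rel (a : ι) (I : Ideal A) (y : MvPolynomial ι A)
    (hy : rel f a * y ∈ relIdeal f (Set.Iio a) ⊔ I.map C) :
    y ∈ relIdeal f (Set.Iio a) ⊔ I.map C := by
  classical
  set N := relIdeal f (Set.Iio a) ⊔ I.map C
  let q := Ideal.Quotient.mk N
  let Θ : MvPolynomial ι A →+* Polynomial (MvPolynomial ι A ⧸ N) :=
    eval₂Hom (Polynomial.C.comp (q.comp C))
      (fun b => if b = a then Polynomial.X else Polynomial.C (q (X b)))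
  let Ψ : Polynomial (MvPolynomial ι A ⧸ N) →+* MvPolynomial ι A ⧸ N :=
    Polynomial.evalRingHom (q (X a))
  have hΨΘ : Ψ.comp Θ = q := by
    refine MvPolynomial.ringHom_ext (fun r => ?_) fun b => ?_
    · simp [Ψ, Θ]
    · by_cases h : b = a <;> simp [Ψ, Θ, h]
  have hsupp : ∀ z ∈ supported A (Set.Iio a), Θ z = Polynomial.C (q z) := by
    intro z hz
    induction hz using Algebra.adjoin_induction with
    | mem z hz => obtain ⟨b, hb, rfl⟩ := hz; simp [Θ, ne_of_lt (Set.mem_Iio.1 hb)]
    | algebraMap r => simp [Θ]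
    | add x y _ _ hx hy => simp [hx, hy]
    | mul x y _ _ hx hy => simp [hx, hy]
  have hN : ∀ z ∈ N, Θ z = 0 := by
    intro z hz
    have : N ≤ RingHom.ker Θ := by
      refine sup_le (Ideal.span_le.2 ?_) (Ideal.map_le_iff_le_comap.2 fun r hr => ?_)
      · rintro _ ⟨b, hb, rfl⟩
        have hmem : rel f b ∈ N := Submodule.mem_sup_left
          (show rel f b ∈ relIdeal f (Set.Iio a) from Ideal.subset_span (Set.mem_image_of_mem _ hb))
        rw [SetLike.mem_coe, RingHom.mem_ker, hsupp _ (rel_mem_supported f b (Set.Iic_subset_Iio.2 hb)),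
          show q (rel f b) = 0 from Ideal.Quotient.eq_zero_iff_mem.2 hmem, map_zero]
      · have : q (C r) = 0 :=
          Ideal.Quotient.eq_zero_iff_mem.2 (Submodule.mem_sup_right (Ideal.mem_map_of_mem C hr))
        simp [Θ, this]
    exact this hz
  have hrel : Θ (rel f a) = (f a).map (q.comp (Base A a).val.toRingHom) := by
    have hX : Θ (X a) = Polynomial.X := by simp [Θ]
    rw [rel, Polynomial.aeval_def, Polynomial.hom_eval₂, hX]
    have : Θ.comp (algebraMap (Base A a) (MvPolynomial ι A)) =
        Polynomial.C.comp (q.comp (Base A a).val.toRingHom) :=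
      RingHom.ext fun z => hsupp z.1 z.2
    rw [this, ← Polynomial.eval₂_map, Polynomial.eval₂_C_X]
  have h0 := hN _ hy
  rw [map_mul, hrel, ((hmon a).map _).mul_right_eq_zero_iff] at h0
  rw [← Ideal.Quotient.eq_zero_iff_mem]
  show q y = 0
  rw [← hΨΘ, RingHom.comp_apply, h0, map_zero]

include hmon in
lemma flat_step (a : ι) (h : Module.Flat A (MvPolynomial ι A ⧸ relIdeal f (Set.Iio a))) :
    Module.Flat A (MvPolynomial ι A ⧸ relIdeal f (Set.Iic a)) := by
  set J := relIdeal f (Set.Iio a)
  set J' := relIdeal f (Set.Iic a)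
  have hJJ' : J' = J ⊔ Ideal.span {rel f a} := by
    simp only [J, J', relIdeal]
    rw [← Ideal.span_union, ← Set.image_singleton, ← Set.image_union, Set.Iio_union_right]
  let μ : (MvPolynomial ι A ⧸ J) →ₗ[A] (MvPolynomial ι A ⧸ J) :=
    LinearMap.mulLeft A (Ideal.Quotient.mk J (rel f a))
  let π : (MvPolynomial ι A ⧸ J) →ₗ[A] (MvPolynomial ι A ⧸ J') :=
    (Ideal.Quotient.factorₐ A (hJJ' ▸ le_sup_left : J ≤ J')).toLinearMap
  refine Groth.Agent.CAlgML.flat_coker_of_injective_mod_ideals μ π ?_ ?_ fun I hI => ?_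
  · intro z
    obtain ⟨z, rfl⟩ := Ideal.Quotient.mk_surjective z
    show Ideal.Quotient.mk J' z = 0 ↔ Ideal.Quotient.mk J z ∈ Set.range μ
    rw [Ideal.Quotient.eq_zero_iff_mem, hJJ']
    constructor
    · intro hz
      obtain ⟨j, hj, w, hw, rfl⟩ := Submodule.mem_sup.1 hz
      obtain ⟨r, rfl⟩ := Ideal.mem_span_singleton'.1 hw
      exact ⟨Ideal.Quotient.mk J r, by simp [μ, Ideal.Quotient.eq_zero_iff_mem.2 hj, mul_comm r]⟩
    · rintro ⟨r, hr⟩
      obtain ⟨r, rfl⟩ := Ideal.Quotient.mk_surjective r
      simp only [μ, LinearMap.mulLeft_apply, ← map_mul, Ideal.Quotient.eq] at hr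
      have : rel f a * r ∈ Ideal.span {rel f a} :=
        Ideal.mul_mem_right _ _ (Ideal.mem_span_singleton_self _)
      simpa using sub_mem (Submodule.mem_sup_right this : rel f a * r ∈ J ⊔ Ideal.span {rel f a})
        (Submodule.mem_sup_left hr)
  · intro z
    obtain ⟨z, rfl⟩ := Ideal.Quotient.mk_surjective z
    exact ⟨Ideal.Quotient.mk J z, rfl⟩
  · rw [← LinearMap.ker_eq_bot, LinearMap.ker_eq_bot']
    intro x hx
    let e := TensorProduct.tensorQuotEquivQuotSMul (MvPolynomial ι A ⧸ J) I
    obtain ⟨t, ht⟩ := Submodule.Quotient.mk_surjective _ (e x)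
    have hxt : x = t ⊗ₜ (1 : A ⧸ I) := by
      rw [← e.symm_apply_apply x, ← ht, TensorProduct.tensorQuotEquivQuotSMul_symm_mk]
    have hmem : μ t ∈ (I • ⊤ : Submodule A (MvPolynomial ι A ⧸ J)) := by
      rw [hxt, LinearMap.rTensor_tmul] at hx
      rw [← Submodule.Quotient.mk_eq_zero, ← e.apply_symm_apply (Submodule.Quotient.mk (μ t)),
        TensorProduct.tensorQuotEquivQuotSMul_symm_mk, hx, map_zero]
    suffices hmem' : t ∈ (I • ⊤ : Submodule A (MvPolynomial ι A ⧸ J)) by
      rw [← e.symm_apply_apply x, ← ht, (Submodule.Quotient.mk_eq_zero _).2 hmem', map_zero]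
    rw [Ideal.smul_top_eq_map, Submodule.restrictScalars_mem] at hmem ⊢
    have hcomp : algebraMap A (MvPolynomial ι A ⧸ J) = (Ideal.Quotient.mk J).comp C := rfl
    rw [hcomp, ← Ideal.map_map] at hmem ⊢
    obtain ⟨t, rfl⟩ := Ideal.Quotient.mk_surjective t
    simp only [μ, LinearMap.mulLeft_apply, ← map_mul] at hmem
    rw [Ideal.mem_quotient_iff_mem_sup, sup_comm] at hmem ⊢
    exact regular_rel f hmon a I t hmem

lemma flat_limit (s : Set ι) (hs : ∀ b ∈ s, Set.Iic b ⊆ s)
    (h : ∀ b ∈ s, Module.Flat A (MvPolynomial ι A ⧸ relIdeal f (Set.Iic b))) :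
    Module.Flat A (MvPolynomial ι A ⧸ relIdeal f s) := by
  classical
  refine (Groth.Agent.CAlgML.flat_of_ui ((relIdeal f s).restrictScalars A).subtype
    (Ideal.Quotient.mkₐ A (relIdeal f s)).toLinearMap ?_ ?_ ?_).2
  · intro z
    show Ideal.Quotient.mk _ z = 0 ↔ _
    rw [Ideal.Quotient.eq_zero_iff_mem]
    exact ⟨fun hz => ⟨⟨z, hz⟩, rfl⟩, by rintro ⟨w, rfl⟩; exact w.2⟩
  · exact Ideal.Quotient.mk_surjective
  refine Groth.Agent.CAlgML.ui_of_equational _ fun n m x y c hxy => ?_
  have hfin : ∀ i, ∃ F : Finset ι, ↑F ⊆ s ∧ (x i : MvPolynomial ι A) ∈ relIdeal f (F : Set ι) := by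
    intro i
    obtain ⟨T, hT, hxT⟩ := Submodule.mem_span_finite_of_mem_span (show (x i : MvPolynomial ι A) ∈
      Ideal.span (rel f '' s) from (x i).2)
    obtain ⟨F, hF, rfl⟩ := Finset.subset_set_image_iff.1 hT
    exact ⟨F, hF, by simpa [relIdeal] using hxT⟩
  choose F hF hxF using hfin
  rcases (Finset.univ.biUnion F).eq_empty_or_nonempty with hemp | hne
  · refine ⟨0, fun i => ?_⟩
    have : F i = ∅ := Finset.subset_empty.1 (hemp ▸ Finset.subset_biUnion_of_mem F (Finset.mem_univ i))
    have h0 : x i = 0 := by simpa [this, relIdeal] using hxF i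
    simp [h0]
  · let b := (Finset.univ.biUnion F).max' hne
    have hbs : b ∈ s := by
      obtain ⟨i, -, hi⟩ := Finset.mem_biUnion.1 ((Finset.univ.biUnion F).max'_mem hne)
      exact hF i hi
    have := h b hbs
    have hui := Groth.Agent.CAlgML.ui_of_flat_right
      ((relIdeal f (Set.Iic b)).restrictScalars A).subtype
      (Ideal.Quotient.mkₐ A (relIdeal f (Set.Iic b))).toLinearMap (Submodule.injective_subtype _)
      (fun z => by
        show Ideal.Quotient.mk _ z = 0 ↔ _
        rw [Ideal.Quotient.eq_zero_iff_mem]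
        exact ⟨fun hz => ⟨⟨z, hz⟩, rfl⟩, by rintro ⟨w, rfl⟩; exact w.2⟩)
      Ideal.Quotient.mk_surjective
    have hxb : ∀ i, (x i : MvPolynomial ι A) ∈ relIdeal f (Set.Iic b) := fun i => by
      have hsub : (↑(F i) : Set ι) ⊆ Set.Iic b := fun k hk =>
        Finset.le_max' _ k (Finset.mem_biUnion.2 ⟨i, Finset.mem_univ i, hk⟩)
      exact Ideal.span_mono (Set.image_mono hsub) (hxF i)
    obtain ⟨z, hz⟩ := Groth.Agent.CAlgML.equational_of_ui _ hui n m (fun i => ⟨x i, hxb i⟩) y c hxy
    refine ⟨fun j => ⟨z j, Ideal.span_mono (Set.image_mono (hs b hbs)) (z j).2⟩,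
      fun i => Subtype.ext ?_⟩
    simpa using congrArg Subtype.val (hz i)

include hmon in
theorem flat_quotient : Module.Flat A (MvPolynomial ι A ⧸ relIdeal f Set.univ) := by
  refine flat_limit f _ (fun b _ => Set.subset_univ _) fun b _ => ?_
  induction b using WellFoundedLT.induction with
  | ind b ih =>
    exact flat_step f hmon b (flat_limit f _ (fun c hc => Set.Iic_subset_Iio.2 hc) fun c hc => ih c hc trivial)

end Flat

section Fibre

variable {K : Type*} [CommRing K] [Nontrivial K] [Algebra A K] (x : ι → K)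

/-- The equations lift minimal equations of the `x a`. -/
structure IsMinimal : Prop where
  monic : ∀ a, (f a).Monic
  vanish : ∀ a, aeval x (rel f a) = 0
  minimal : ∀ a (r : Polynomial (Base A a)), r.degree < (f a).degree →
    aeval x (Polynomial.aeval (X a : MvPolynomial ι A) r) = 0 →
    ∀ n, aeval x (r.coeff n : MvPolynomial ι A) = 0

theorem ker_aeval_eq (h : IsMinimal f x) :
    RingHom.ker (aeval (R := A) x).toRingHom =
      relIdeal f Set.univ ⊔ (RingHom.ker (algebraMap A K)).map C := by
  classical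
  set N := relIdeal f Set.univ ⊔ (RingHom.ker (algebraMap A K)).map C
  refine le_antisymm ?_ (sup_le (Ideal.span_le.2 ?_) (Ideal.map_le_iff_le_comap.2 fun r hr => ?_))
  · have hlim : ∀ (P : Set ι), (∀ b ∈ P, ∀ y ∈ supported A (Set.Iic b), aeval x y = 0 → y ∈ N) →
        ∀ y ∈ supported A P, aeval x y = 0 → y ∈ N := by
      intro P hP y hy h0
      rcases y.vars.eq_empty_or_nonempty with he | hne
      · obtain ⟨c, rfl⟩ : ∃ c, C c = y := by
          have := mem_supported_vars y
          rw [he, Finset.coe_empty, supported_empty, Algebra.mem_bot] at this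
          exact this
        rw [aeval_C] at h0
        exact Submodule.mem_sup_right (Ideal.mem_map_of_mem C (RingHom.mem_ker.2 h0))
      · refine hP _ (mem_supported.1 hy (y.vars.max'_mem hne)) y ?_ h0
        exact mem_supported.2 fun k hk => Finset.le_max' _ k hk
    have key : ∀ b : ι, ∀ y ∈ supported A (Set.Iic b), aeval x y = 0 → y ∈ N := by
      intro b
      induction b using WellFoundedLT.induction with
      | ind b ih =>
        intro y hy h0
        have hnt : Nontrivial (MvPolynomial ι A) := (aeval (R := A) x).toRingHom.domain_nontrivial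
        have : Nontrivial (Base A b) := ⟨0, 1, fun h01 =>
          zero_ne_one (α := MvPolynomial ι A) (congrArg Subtype.val h01)⟩
        obtain ⟨Y, rfl⟩ := supported_Iic_le_range b y hy
        have hY := Polynomial.modByMonic_add_div Y (f b)
        rw [← hY, map_add, map_mul] at h0 ⊢
        rw [map_add, map_mul (aeval x), ← rel, h.vanish b, zero_mul, add_zero] at h0
        refine add_mem ?_ (Ideal.mul_mem_right _ _
          (Submodule.mem_sup_left (Ideal.subset_span ⟨b, trivial, rfl⟩)))
        have hc := h.minimal b _ (Polynomial.degree_modByMonic_lt Y (h.monic b)) h0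
        rw [Polynomial.aeval_eq_sum_range]
        refine Ideal.sum_mem _ fun n _ => ?_
        rw [Algebra.smul_def]
        exact Ideal.mul_mem_right _ _ (hlim _ (fun c hc => ih c hc) _
          ((Y %ₘ f b).coeff n).2 (hc n))
    intro y hy
    exact hlim Set.univ (fun b _ => key b) y (by rw [supported_univ]; trivial) hy
  · rintro _ ⟨b, -, rfl⟩
    exact h.vanish b
  · simpa [RingHom.mem_ker] using hr

end Fibre

end Groth.Agent.CAlgFlatExt
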